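import Groth.Agent.LefAmpleLib.Punctured
import Groth.Agent.LefAmpleLib.ClosedModules

/-!
# Full faithfulness of completion along an ideal on an open of an affine scheme
-/

set_option autoImplicit false
set_option backward.isDefEq.respectTransparency false
set_option linter.style.haveILetI false
set_option maxHeartbeats 800000

universe u

open CategoryTheory CategoryTheory.Limits AlgebraicGeometry TopologicalSpace
open Groth.Agent.PullbackMod Groth.Agent.PuncSecLib Groth.Agent.LefAmpleLib

noncomputable section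

namespace Groth.Agent.GradedTower

variable {A : Type u} [CommRing A] (U : (Sp A).Opens) (J : Ideal A)

/-- The ideal sheaf of `V(J)`. -/
abbrev idealJ : (U : Scheme.{u}).IdealSheafData :=
  ((Spec.map (CommRingCat.ofHom (Ideal.Quotient.mk J))).ker).comap U.ι

/-- The stalk of a constant. -/
abbrev gerA (x : (U : Scheme.{u})) : A →+* (U : Scheme.{u}).presheaf.stalk x :=
  ((U : Scheme.{u}).presheaf.germ ⊤ x trivial).hom.comp (Coh.toGlobal ((U : Scheme.{u}) ↘ Spec (CommRingCat.of A)))

theorem stalkIdeal_idealJ (x : (U : Scheme.{u})) :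
    IntMult.stalkIdeal (idealJ U J) x = J.map (gerA U x) := by
  let q := Spec.map (CommRingCat.ofHom (Ideal.Quotient.mk J))
  haveI : IsClosedImmersion q := IsClosedImmersion.spec_of_surjective _ Ideal.Quotient.mk_surjective
  let T : (Sp A).affineOpens := ⟨⊤, isAffineOpen_top _⟩
  have hker : q.ker.ideal T = J.map (Scheme.ΓSpecIso (CommRingCat.of A)).inv.hom := by
    rw [Scheme.Hom.ker_apply]
    have key : ∀ a : A, q.app ⊤ ((Scheme.ΓSpecIso (CommRingCat.of A)).inv a) =
        (Scheme.ΓSpecIso (CommRingCat.of (A ⧸ J))).inv (Ideal.Quotient.mk _ a) := fun a =>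
      (congr($(Scheme.ΓSpecIso_inv_naturality (CommRingCat.ofHom (Ideal.Quotient.mk J))) a)).symm
    have hbij := ConcreteCategory.bijective_of_isIso (Scheme.ΓSpecIso (CommRingCat.of A)).inv
    ext b
    obtain ⟨a, rfl⟩ : ∃ a, (Scheme.ΓSpecIso (CommRingCat.of A)).inv a = b := hbij.2 b
    rw [RingHom.mem_ker]
    constructor
    · intro hb
      have h0 : Ideal.Quotient.mk J a = 0 :=
        (ConcreteCategory.bijective_of_isIso (Scheme.ΓSpecIso (CommRingCat.of (A ⧸ J))).inv).1
          (((key a).symm.trans hb).trans (map_zero _).symm)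
      exact Ideal.mem_map_of_mem _ (Ideal.Quotient.eq_zero_iff_mem.1 h0)
    · intro hb
      obtain ⟨c, hc, hca⟩ := (Ideal.mem_map_iff_of_surjective _ hbij.2).1 hb
      obtain rfl := hbij.1 hca
      refine (key c).trans ?_
      rw [Ideal.Quotient.eq_zero_iff_mem.2 hc, map_zero]
  rw [IdealStalkLib.stalkIdeal_comap, IdealStalkLib.stalkIdeal_eq _ T (U.ι x) trivial, hker, Ideal.map_map,
    Ideal.map_map]
  exact congrArg (fun φ : A →+* _ => J.map φ) (RingHom.ext fun a => (germ_gs U a x).symm)

/-- `O/J^{n+1}` in the two notations. -/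
theorem exists_modPow_quotMod_iso (n : ℕ) :
    ∃ θ : Formal.modPow J (n + 1) (Coh.structureModule (U : Scheme.{u})) ≅ ClSub.quotMod (idealJ U J ^ (n + 1)),
      Formal.modPowπ J (n + 1) (Coh.structureModule (U : Scheme.{u})) ≫ θ.hom =
        ClSub.toSubscheme (idealJ U J ^ (n + 1)) := by
  let O := Coh.structureModule (U : Scheme.{u})
  let K := idealJ U J ^ (n + 1)
  let π := Formal.modPowπ J (n + 1) O
  let f := ClSub.toSubscheme K
  haveI := HilbObsLib.epi_toSubscheme K
  haveI : Epi π := inferInstanceAs (Epi (cokernel.π _))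
  have hK : ∀ x, IntMult.stalkIdeal K x = (J ^ (n + 1)).map (gerA U x) := by
    intro x
    rw [InfNbhdLib.stalkIdeal_pow, stalkIdeal_idealJ, Ideal.map_pow]
  have h1 : Formal.smulFamily (J ^ (n + 1)) O ≫ f = 0 := by
    refine Sigma.hom_ext _ _ fun a => ?_
    rw [comp_zero, Formal.smulFamily, Sigma.ι_desc_assoc]
    refine hom_ext_stalk fun x => LinearMap.ext fun z => ?_
    rw [DevLib.stalkLin_zero, LinearMap.zero_apply, stalkLin_comp, LinearMap.comp_apply, stalkLin_smulMod]
    obtain ⟨c, rfl⟩ := (ParaFLib.bijective_oneG x).2 z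
    show stalkLin f x (_ • (c • ParaFLib.oneG x)) = 0
    rw [smul_smul]
    refine (H1ZeroLib.qv_eq_zero_iff K x _).2 (Ideal.mul_mem_right _ _ ?_)
    rw [hK]
    exact Ideal.mem_map_of_mem (gerA U x) a.2
  have h2 : kernel.ι f ≫ π = 0 := kernel_comp_eq_zero _ _ fun x z hz => by
    obtain ⟨c, rfl⟩ := (ParaFLib.bijective_oneG x).2 z
    have hc : c ∈ IntMult.stalkIdeal K x := (H1ZeroLib.qv_eq_zero_iff K x c).1 hz
    rw [hK] at hc
    show (stalkLin π x ∘ₗ LinearMap.toSpanSingleton _ _ (ParaFLib.oneG x)) c = 0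
    refine LinearMap.mem_ker.1 ((Ideal.span_le.2 ?_ : (J ^ (n + 1)).map (gerA U x) ≤ LinearMap.ker _) hc)
    rintro _ ⟨a, ha, rfl⟩
    have h0 : Formal.smulMod A O a ≫ π = 0 := by
      have := congrArg (fun w => Sigma.ι (fun _ : ↥(J ^ (n + 1)) => O) ⟨a, ha⟩ ≫ w)
        (cokernel.condition (Formal.smulFamily (J ^ (n + 1)) O))
      simp only [comp_zero, Formal.smulFamily, Sigma.ι_desc_assoc] at this
      exact this
    have h3 := congr(stalkLin $h0 x (ParaFLib.oneG x))
    rw [DevLib.stalkLin_zero, LinearMap.zero_apply, stalkLin_comp, LinearMap.comp_apply, stalkLin_smulMod] at h3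
    exact h3
  let a : Formal.modPow J (n + 1) O ⟶ ClSub.quotMod K := cokernel.desc _ f h1
  let b : ClSub.quotMod K ⟶ Formal.modPow J (n + 1) O := Abelian.epiDesc f π h2
  have ha : π ≫ a = f := cokernel.π_desc _ _ _
  have hb : f ≫ b = π := Abelian.comp_epiDesc _ _ _
  refine ⟨⟨a, b, ?_, ?_⟩, ha⟩
  · rw [← cancel_epi π, Category.comp_id, ← Category.assoc, ha, hb]
  · rw [← cancel_epi f, Category.comp_id, ← Category.assoc, hb, ha]

/-- The bijection for the structure sheaf. -/
theorem homToFormalBijective_unit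
    (h : Function.Bijective (Formal.toHHlim J (Coh.structureModule (U : Scheme.{u})) 0)) :
    Lef.HomToFormalBijective (idealJ U J) (Coh.structureModule (U : Scheme.{u})) := by
  let O := Coh.structureModule (U : Scheme.{u})
  choose θ hθ using exists_modPow_quotMod_iso U J
  have hφ : ∀ (φ : O ⟶ O) (n : ℕ), Formal.toHHmodPow J O 0 n (unitClass O φ) =
      unitClass _ ((φ ≫ ClSub.toSubscheme (idealJ U J ^ (n + 1))) ≫ (θ n).inv) := fun φ n => by
    rw [← hθ n, Category.assoc, Category.assoc, Iso.hom_inv_id, Category.comp_id, unitClass_comp]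
    rfl
  refine ⟨fun φ ψ e => (bijective_unitClass O).1 (h.1 (Subtype.ext (funext fun n => ?_))), fun y hy => ?_⟩
  · show Formal.toHHmodPow J O 0 n _ = Formal.toHHmodPow J O 0 n _
    rw [hφ, hφ, e n]
  · have hq : ∀ n, (θ (n + 1)).inv ≫ Formal.modPowTrans J (n + 1) O =
        Lef.quotMap (Lef.pow_succ_le (idealJ U J) n) ≫ (θ n).inv := fun n => by
      haveI := HilbObsLib.epi_toSubscheme (idealJ U J ^ (n + 2))
      rw [← cancel_epi (ClSub.toSubscheme (idealJ U J ^ (n + 2))), toSubscheme_quotMap_assoc, ← hθ (n + 1),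
        Category.assoc, Iso.hom_inv_id_assoc, ← hθ n, Category.assoc, Iso.hom_inv_id, Category.comp_id]
      exact Formal.modPowπ_trans J (n + 1) O
    obtain ⟨c, hc⟩ := h.2 ⟨fun n => unitClass _ (y n ≫ (θ n).inv), fun n =>
      (unitClass_comp (y (n + 1) ≫ (θ (n + 1)).inv) (Formal.modPowTrans J (n + 1) O)).symm.trans
        (congrArg (unitClass _) (by rw [Category.assoc, hq n, ← Category.assoc, hy n]))⟩
    obtain ⟨φ, rfl⟩ := (bijective_unitClass O).2 c
    refine ⟨φ, fun n => ?_⟩
    have h1 := congrFun (congrArg Subtype.val hc) n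
    change Formal.toHHmodPow J O 0 n (unitClass O φ) = _ at h1
    rw [hφ] at h1
    exact (cancel_mono (θ n).inv).1 ((bijective_unitClass _).1 h1)

variable [IsNoetherianRing A]

/-- Completion is fully faithful on coherent modules when the reductions are closed. -/
theorem homToFormalBijective_of_closed [IsAdicComplete J A] (𝔞 : Ideal A)
    (h : ∀ n, HyperAlg.IsClosedMod (genOf 𝔞) (A ⧸ (J ^ n • (⊤ : Submodule A A))))
    {M : (LocCoh.puncturedOpen A 𝔞 : Scheme.{u}).Modules} (hM : Coh.IsCoh M) :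
    Lef.HomToFormalBijective (idealJ (LocCoh.puncturedOpen A 𝔞) J) M := by
  haveI : IsNoetherianRing (CommRingCat.of A : Type u) := inferInstanceAs (IsNoetherianRing A)
  haveI : IsLocallyNoetherian (LocCoh.puncturedOpen A 𝔞 : Scheme.{u}) :=
    isLocallyNoetherian_of_isOpenImmersion (LocCoh.puncturedOpen A 𝔞).ι
  exact homToFormalBijective_open_coh _ _ (homToFormalBijective_unit _ J (bijective_toHHlim_unit 𝔞 J h)) hM

end Groth.Agent.GradedTower
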