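import Groth.Agent.GradedTowerLib.Assemble
import Groth.Agent.GradedTowerLib.Lef
import Groth.Agent.LefAmpleLib.Leff
import Groth.Agent.Depth.Basic

/-!
# Full faithfulness and algebraization on the complement of a closed set, along a projective graded ring
-/

set_option autoImplicit false
set_option backward.isDefEq.respectTransparency false
set_option backward.isDefEq.respectTransparency.types false
set_option linter.style.haveILetI false
set_option maxHeartbeats 1000000

universe u

open CategoryTheory CategoryTheory.Limits AlgebraicGeometry TopologicalSpace Opposite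
open RingTheory.Sequence

noncomputable section

namespace Groth.Agent.GradedTower

variable {A : Type u} [CommRing A] [IsNoetherianRing A]

/-- Local cohomology vanishes below the depth. -/
theorem subsingleton_H_of_le_idealDepth {𝔞 : Ideal A} {M : Type u} [AddCommGroup M] [Module A M] [Module.Finite A M]
    (n : ℕ) (h : (n : ℕ∞) ≤ LocCoh.idealDepth 𝔞 M) (i : ℕ) (hi : i < n) :
    Subsingleton (LocCoh.H 𝔞 i M) := by
  obtain ⟨rs, hl, hm, hw⟩ : ∃ rs : List A, rs.length = n ∧ (∀ r ∈ rs, r ∈ 𝔞) ∧ IsWeaklyRegular M rs := by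
    by_cases hne : 𝔞 • (⊤ : Submodule A M) = ⊤
    · obtain ⟨r, hr, hr'⟩ := Submodule.exists_sub_one_mem_and_smul_eq_zero_of_fg_of_le_smul 𝔞
        (⊤ : Submodule A M) Module.Finite.fg_top hne.ge
      have he : ∀ m : M, (1 - r) • m = m := fun m => by rw [sub_smul, one_smul, hr' m trivial, sub_zero]
      have hmem : 1 - r ∈ 𝔞 := by rw [← neg_sub]; exact neg_mem hr
      refine ⟨List.replicate n (1 - r), List.length_replicate, fun x hx => (List.eq_of_mem_replicate hx) ▸ hmem,
        ⟨fun j hj => ?_⟩⟩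
      rw [List.getElem_replicate]
      intro x y hxy
      obtain ⟨x, rfl⟩ := Submodule.Quotient.mk_surjective _ x
      obtain ⟨y, rfl⟩ := Submodule.Quotient.mk_surjective _ y
      simp only [← Submodule.Quotient.mk_smul, he] at hxy
      exact hxy
    · exact (Depth.le_idealDepth_iff hne n).1 h
  exact LocCohLib.subsingleton_of_isWeaklyRegular 𝔞 (ModuleCat.of A M) rs hw hm i (hl ▸ hi)

/-- Full faithfulness and algebraization along a projective graded ring, with depth three. -/
theorem lef_and_algebraization (𝔞 J : Ideal A) [IsAdicComplete J A]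
    (hd : (3 : ℕ∞) ≤ LocCoh.idealDepth 𝔞 (A ⧸ J))
    (hgr : ∀ n, Module.Projective (A ⧸ J) (↥(J ^ n) ⧸ (J • (⊤ : Submodule A ↥(J ^ n)))))
    (U : (Spec (CommRingCat.of A)).Opens) (hU : U = LocCoh.puncturedOpen A 𝔞) :
    (∀ D : (U : Scheme.{u}).Modules, FlatMod.IsFinLocFree D →
      Lef.HomToFormalBijective ((Spec.map (CommRingCat.ofHom (Ideal.Quotient.mk J))).ker.comap U.ι) D) ∧
    ∀ 𝔐 : FSch.ModSys (FSch.completionAlong (U : Scheme.{u})
        ((Spec.map (CommRingCat.ofHom (Ideal.Quotient.mk J))).ker.comap U.ι)),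
      LefX.LevelwiseFinLocFree 𝔐 → ∃ F : (U : Scheme.{u}).Modules, Coh.IsCoh F ∧
        Nonempty (FSch.completionMod ((Spec.map (CommRingCat.ofHom (Ideal.Quotient.mk J))).ker.comap U.ι) F ≅ 𝔐) := by
  subst hU
  let X := LocCoh.puncturedOpen A 𝔞
  haveI : NoetherianSpace (Spec (CommRingCat.of A)) := inferInstanceAs (NoetherianSpace (PrimeSpectrum A))
  haveI : CompactSpace (X : Scheme.{u}) :=
    isCompact_iff_compactSpace.1 (NoetherianSpace.isCompact (X : Set (Spec (CommRingCat.of A))))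
  haveI : IsLocallyNoetherian (X : Scheme.{u}) := isLocallyNoetherian_of_isOpenImmersion X.ι
  haveI : AlgebraicGeometry.IsNoetherian (X : Scheme.{u}) := AlgebraicGeometry.IsNoetherian.mk
  have hcl := LefAmpleLib.isClosedMod_quot_pow (LefAmpleLib.isClosedMod_of_two_le_idealDepth
    (le_trans (by norm_num) hd : (2 : ℕ∞) ≤ LocCoh.idealDepth 𝔞 (A ⧸ J))) hgr
  refine ⟨fun D hD => homToFormalBijective_of_closed J 𝔞 hcl (CurveLib.isCoh_of_isFinLocFree hD), fun 𝔐 h => ?_⟩
  let 𝓘 := (Spec.map (CommRingCat.ofHom (Ideal.Quotient.mk J))).ker.comap X.ι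
  have h𝓘 : 𝓘 = (FSch.idealSpec A J).comap ((X : Scheme.{u}) ↘ Spec (CommRingCat.of A)) := rfl
  have hcoh : 𝔐.IsCoh := fun n =>
    haveI : IsLocallyNoetherian ((FSch.completionAlong (X : Scheme.{u}) 𝓘).X n) :=
      LocallyOfFiniteType.isLocallyNoetherian (FSch.completionToX (X : Scheme.{u}) 𝓘 n)
    CurveLib.isCoh_of_isFinLocFree (h n)
  haveI h1 := subsingleton_H_of_le_idealDepth 3 hd 1 (by norm_num)
  haveI h2 := subsingleton_H_of_le_idealDepth 3 hd 2 (by norm_num)
  obtain ⟨F, hF, ⟨c⟩⟩ := algebraization (FExist.isCohFormal_tower h𝓘 𝔐 hcoh)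
    (fun n => LefAmpleLib.isFinLocFreeMod_tower h𝓘 𝔐 n (h n)) hgr inferInstance inferInstance
  obtain ⟨β, -⟩ := FExist.exists_completion_iso_tower h𝓘 hF
  obtain ⟨a⟩ := FExist.nonempty_iso_of_tower (β.symm ≪≫ c)
  obtain ⟨b⟩ := LefAmpleLib.nonempty_completionMod_iso 𝓘 F
  exact ⟨F, hF, ⟨b ≪≫ a⟩⟩

end Groth.Agent.GradedTower
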